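import Groth.Agent.AVIndexLib.MumfordMain
import Groth.Agent.AVAmpleLib.KLPoints
import Groth.Agent.AVAmpleLib.EndInt
import Groth.Agent.CubeConsLib.Seesaw
import Groth.Agent.CubeConsLib.Invariant
import Groth.Agent.AVIndexLib.DualHom

/-!
Relations between translation classes, read as equalities of Mumford classes on `A × A`.
-/

set_option autoImplicit false
set_option maxHeartbeats 1000000
set_option maxRecDepth 8000
set_option backward.isDefEq.respectTransparency false
set_option linter.style.haveILetI false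
set_option linter.unusedSectionVars false

noncomputable section

universe u

open CategoryTheory CategoryTheory.Limits MonoidalCategory CartesianMonoidalCategory MonObj AlgebraicGeometry
open CubeConsLib AVAmpleLib

namespace RosatiLib

variable {K : Type u} [Field K] {A : Over (Spec (CommRingCat.of K))} [GrpObj A] [IsProper A.hom]
  [GeometricallyIntegral A.hom]

local notation "Pt" => 𝟙_ (Over (Spec (CommRingCat.of K))) ⟶ A

instance isIntegral_self : IsIntegral A.left := GeometricallyIntegral.isIntegral_of_subsingleton A.hom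

instance isProper_sq : IsProper (A ⊗ A).hom := by
  haveI : IsProper (pullback.fst A.hom A.hom) := MorphismProperty.pullback_fst (P := @IsProper) _ _ ‹IsProper A.hom›
  exact inferInstanceAs (IsProper (pullback.fst A.hom A.hom ≫ A.hom))

instance geomInt_sq : GeometricallyIntegral (A ⊗ A).hom := by
  haveI : LocallyOfFinitePresentation A.hom := LocallyOfFinitePresentation.iff_locallyOfFiniteType.2 inferInstance
  exact CubeConsLib.geometricallyIntegral_prod A.hom A.hom

instance isIntegral_sq : IsIntegral (A ⊗ A).left :=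
  GeometricallyIntegral.isIntegral_of_subsingleton (A ⊗ A).hom

/-- The translation class `t_x^*M - M`. -/
def phiP {M : A.left.Modules} (hM : PicF.IsInvertible M) (x : Pt) : PicA A.left := P hM (tR x) - P hM (𝟙 A)

/-- The Mumford class twisted by two maps. -/
def pairing2 {M : A.left.Modules} (hM : PicF.IsInvertible M) (f g : A ⟶ A) : PicA (A ⊗ A).left :=
  CubeConsLib.lam hM (fst A A ≫ f) (snd A A ≫ g)

theorem pairing2_id {M : A.left.Modules} (hM : PicF.IsInvertible M) :
    pairing2 hM (𝟙 A) (𝟙 A) = CubeConsLib.lam hM (fst A A) (snd A A) := by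
  rw [pairing2, Category.comp_id, Category.comp_id]

theorem pullA_pairing2 {M : A.left.Modules} (hM : PicF.IsInvertible M) (f g : A ⟶ A)
    {V : Over (Spec (CommRingCat.of K))} (a b : V ⟶ A) :
    pullA (lift a b).left (pairing2 hM f g) = CubeConsLib.lam hM (a ≫ f) (b ≫ g) := by
  rw [pairing2, pullA_lam, lift_fst_assoc, lift_snd_assoc]

theorem slice_pairing2 {M : A.left.Modules} (hM : PicF.IsInvertible M) (f g : A ⟶ A) (x : Pt) :
    pullA (lift (𝟙 A) (toUnit A ≫ x)).left (pairing2 hM f g) = pullA f.left (phiP hM (x ≫ g)) := by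
  rw [pullA_pairing2, Category.id_comp, Category.assoc, phiP, map_sub, pullA_P, pullA_P, Category.comp_id,
    CubeConsLib.lam, P_const hM, sub_zero]
  congr 2
  rw [tR, MonObj.comp_mul, Category.comp_id]
  congr 1
  exact ((Category.assoc _ _ _).symm.trans (congrArg (· ≫ x ≫ g) (toUnit_unique (f ≫ toUnit A) (toUnit A)))).symm

theorem sec_pairing2 {M : A.left.Modules} (hM : PicF.IsInvertible M) (f g : A ⟶ A) [IsMonHom f] :
    pullA (lift (1 : A ⟶ A) (𝟙 A)).left (pairing2 hM f g) = 0 := by
  rw [pullA_pairing2, MonObj.one_comp, lam_one_left]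

theorem isLB_pairing2 {M : A.left.Modules} (hM : PicF.IsInvertible M) (f g : A ⟶ A) :
    pairing2 hM f g ∈ clRange (A ⊗ A) :=
  sub_mem (sub_mem (P_mem hM _) (P_mem hM _)) (P_mem hM _)

/-- Classes on `A × A` with the same slices and the same restriction to the axis are equal. -/
theorem eq_of_slices [IsAlgClosed K] {c d : PicA (A ⊗ A).left} (hc : c ∈ clRange (A ⊗ A))
    (hd : d ∈ clRange (A ⊗ A))
    (hs : pullA (lift (1 : A ⟶ A) (𝟙 A)).left c = pullA (lift (1 : A ⟶ A) (𝟙 A)).left d)
    (h : ∀ x : Pt, pullA (lift (𝟙 A) (toUnit A ≫ x)).left c = pullA (lift (𝟙 A) (toUnit A ≫ x)).left d) :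
    c = d := by
  obtain ⟨M₁, h₀, rfl⟩ := hc
  obtain ⟨M₂, h₂, rfl⟩ := hd
  let p := (snd A A).left
  have : IsProper p := MorphismProperty.pullback_snd (P := @IsProper) A.hom A.hom ‹_›
  have : Flat p := MorphismProperty.pullback_snd (P := @Flat) A.hom A.hom inferInstance
  have : GeometricallyIntegral p := inferInstanceAs (GeometricallyIntegral (Limits.pullback.snd A.hom A.hom))
  have : IsLocallyNoetherian A.left := LocallyOfFiniteType.isLocallyNoetherian A.hom
  have : IsReduced A.left := GeometricallyReduced.isReduced_of_flat_of_isLocallyNoetherian A.hom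
  have : JacobsonSpace A.left := jacobsonSpace_of_field A.hom
  obtain ⟨N, hN, hiso⟩ := seesaw_closedPoints p h₀ h₂ fun y hy => by
    let a : Pt := Over.homMk (pointOfClosedPoint A.hom y hy) (pointOfClosedPoint_comp A.hom y hy)
    let φ : A ⟶ A ⊗ A := lift (𝟙 A) (toUnit A ≫ a)
    let e := Limits.pullback.fst p (A.left.fromSpecResidueField y) ≫ (fst A A).left
    have ha : A.left.fromSpecResidueField y = (A.left.fromSpecResidueField y ≫ A.hom) ≫ a.left := by
      show _ = _ ≫ pointOfClosedPoint A.hom y hy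
      rw [pointOfClosedPoint, ← SpecMap_residueFieldIsoBase_inv A.hom y hy, ← Category.assoc, ← Spec.map_comp,
        Iso.hom_inv_id, Spec.map_id, Category.id_comp]
    have hfac : Limits.pullback.fst p (A.left.fromSpecResidueField y) = e ≫ φ.left := by
      refine Over.tensorObj_ext _ _ ?_ ?_
      · rw [Category.assoc]
        change e = e ≫ (φ ≫ fst A A).left
        rw [lift_fst, Over.id_left, Category.comp_id]
      · rw [Category.assoc]
        change Limits.pullback.fst p _ ≫ p = e ≫ (φ ≫ snd A A).left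
        rw [lift_snd, Over.comp_left, Limits.pullback.condition]
        change _ = e ≫ A.hom ≫ a.left
        rw [← Category.assoc e A.hom]
        have hc : e ≫ A.hom = Limits.pullback.fst p (A.left.fromSpecResidueField y) ≫ p ≫ A.hom := by
          show (_ ≫ (fst A A).left) ≫ A.hom = _ ≫ (snd A A).left ≫ A.hom
          rw [Category.assoc, Over.w, Over.w]
        rw [hc, Limits.pullback.condition_assoc, Category.assoc]
        exact (congrArg (Limits.pullback.snd p _ ≫ ·) ha).trans (by simp only [Category.assoc])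
    have key' := congrArg (pullA e) (h a)
    rw [pullA_comp, pullA_comp, ← hfac, pullA_clA _ h₀, pullA_clA _ h₂, clA_eq_iff] at key'
    exact key'
  have hN' : PicF.IsInvertible ((Scheme.Modules.pullback p).obj N) := AmpleDevLib.isInvertible_pb _ hN
  rw [← clA_eq_iff h₀ (HilbPolyLib.isInvertible_tensor h₂ hN'), clA_tensor h₂ hN', ← pullA_clA p hN] at hiso
  rw [hiso, map_add, pullA_comp, ← Over.comp_left, lift_snd, Over.id_left, pullA_id, add_eq_left] at hs
  rw [hiso, hs, map_zero, add_zero]

variable [IsAlgClosed K]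

/-- A relation between translation classes is a relation between Mumford classes. -/
theorem pairing2_eq_nsmul {M L : A.left.Modules} (hM : PicF.IsInvertible M) (hL : PicF.IsInvertible L)
    (n : ℕ) {f g f' g' : A ⟶ A} [IsMonHom f] [IsMonHom f']
    (h : ∀ x : Pt, pullA f'.left (phiP hM (x ≫ g')) = n • pullA f.left (phiP hL (x ≫ g))) :
    pairing2 hM f' g' = n • pairing2 hL f g := by
  refine eq_of_slices (isLB_pairing2 hM _ _) (nsmul_mem (isLB_pairing2 hL _ _) n) ?_ fun x => ?_
  · rw [map_nsmul, sec_pairing2, sec_pairing2, smul_zero]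
  · rw [map_nsmul, slice_pairing2, slice_pairing2, h]

theorem phiP_eq_of_pairing2 {M L : A.left.Modules} (hM : PicF.IsInvertible M) (hL : PicF.IsInvertible L)
    (n : ℕ) {f g f' g' : A ⟶ A} (h : pairing2 hM f' g' = n • pairing2 hL f g) (x : Pt) :
    pullA f'.left (phiP hM (x ≫ g')) = n • pullA f.left (phiP hL (x ≫ g)) := by
  rw [← slice_pairing2, ← slice_pairing2, h, map_nsmul]

/-- The adjoint relation is symmetric. -/
theorem adjoint_swap {L : A.left.Modules} (hL : PicF.IsInvertible L) (m n : ℕ) {α ρ : A ⟶ A} [IsMonHom α]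
    [IsMonHom ρ] (h : ∀ x : Pt, m • phiP hL (x ≫ ρ) = n • pullA α.left (phiP hL x)) (x : Pt) :
    m • pullA ρ.left (phiP hL x) = n • phiP hL (x ≫ α) := by
  haveI : IsMonHom (𝟙 A) := inferInstance
  have e : m • pairing2 hL (𝟙 A) ρ = n • pairing2 hL α (𝟙 A) := by
    refine eq_of_slices (nsmul_mem (isLB_pairing2 hL _ _) m) (nsmul_mem (isLB_pairing2 hL _ _) n) ?_ fun y => ?_
    · rw [map_nsmul, map_nsmul, sec_pairing2, sec_pairing2, smul_zero, smul_zero]
    · rw [map_nsmul, map_nsmul, slice_pairing2, slice_pairing2, Category.comp_id, Over.id_left, pullA_id, h]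
  have e' := congrArg (pullA (lift (toUnit A ≫ x) (𝟙 A)).left) e
  simp only [map_nsmul, pullA_pairing2, Category.comp_id, Category.id_comp] at e'
  have h1 : pullA ρ.left (phiP hL x) = CubeConsLib.lam hL (toUnit A ≫ x) ρ := by
    have := slice_pairing2 hL ρ (𝟙 A) x
    rw [pullA_pairing2, Category.id_comp, Category.comp_id, Category.comp_id] at this
    rw [← this, lam_comm]
  have h2 : phiP hL (x ≫ α) = CubeConsLib.lam hL ((toUnit A ≫ x) ≫ α) (𝟙 A) := by
    have := slice_pairing2 hL (𝟙 A) α x
    rw [pullA_pairing2, Category.id_comp, Over.id_left, pullA_id] at this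
    rw [← this, lam_comm]
  rw [h1, h2, e']

theorem phiP_nsmul {L Lm : A.left.Modules} (hL : PicF.IsInvertible L) (hLm : PicF.IsInvertible Lm) {m : ℕ}
    (e : clA hLm = m • clA hL) (x : Pt) : phiP hLm x = m • phiP hL x := by
  rw [phiP, phiP, P, P, P, P, e, map_nsmul, map_nsmul, smul_sub]

theorem phiP_add {L M N : A.left.Modules} (hL : PicF.IsInvertible L) (hM : PicF.IsInvertible M)
    (hN : PicF.IsInvertible N) (e : clA hN = clA hL + clA hM) (x : Pt) :
    phiP hN x = phiP hL x + phiP hM x := by
  rw [phiP, phiP, phiP, P, P, P, P, P, P, e, map_add, map_add]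
  abel

theorem phiP_mul {L : A.left.Modules} (hL : PicF.IsInvertible L) (x y : Pt) :
    phiP hL (x * y) = phiP hL x + phiP hL y := by
  have h := cube_field hL (𝟙 A) (toUnit A ≫ x) (toUnit A ≫ y)
  rw [P_const, P_const, ← MonObj.comp_mul, P_const, _root_.mul_assoc, ← MonObj.comp_mul, add_zero, add_zero,
    add_zero] at h
  show P hL (tR (x * y)) - P hL (𝟙 A) = (P hL (tR x) - P hL (𝟙 A)) + (P hL (tR y) - P hL (𝟙 A))
  rw [eq_sub_of_add_eq h]
  simp only [tR]
  abel

theorem phiP_one {L : A.left.Modules} (hL : PicF.IsInvertible L) : phiP hL (1 : Pt) = 0 := by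
  rw [phiP, tR_one, sub_self]

theorem phiP_zpow {L : A.left.Modules} (hL : PicF.IsInvertible L) (x : Pt) (n : ℤ) :
    phiP hL (x ^ n) = n • phiP hL x :=
  map_zsmul (AddMonoidHom.mk' (fun y : Additive Pt => phiP hL y.toMul) fun y z => phiP_mul hL y.toMul z.toMul)
    n (Additive.ofMul x)

theorem pullA_phiP {L : A.left.Modules} (hL : PicF.IsInvertible L) (f : A ⟶ A) [IsMonHom f] (x : Pt) :
    phiP (AmpleDevLib.isInvertible_pb f.left hL) x = pullA f.left (phiP hL (x ≫ f)) := by
  rw [phiP, phiP, map_sub, pullA_P, pullA_P, P_pullback hL, P_pullback hL, Category.id_comp, Category.comp_id]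
  congr 2
  rw [tR, tR, MonObj.mul_comp, MonObj.comp_mul, Category.id_comp, Category.comp_id, ← Category.assoc f,
    toUnit_unique (f ≫ toUnit A) (toUnit A), Category.assoc]

/-- An isomorphism in the form of the statements, read on translation classes. -/
theorem rel_of_tensorIso {M M' L L' : A.left.Modules} (hM : PicF.IsInvertible M) (hM' : PicF.IsInvertible M')
    (hL : PicF.IsInvertible L) (hL' : PicF.IsInvertible L')
    (h : Nonempty (CohB1.tensorMod M' L ≅ CohB1.tensorMod M L')) :
    clA hM' - clA hM = clA hL' - clA hL := by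
  rw [← clA_eq_iff (HilbPolyLib.isInvertible_tensor hM' hL) (HilbPolyLib.isInvertible_tensor hM hL'),
    clA_tensor hM' hL, clA_tensor hM hL'] at h
  rw [eq_sub_of_add_eq h]
  abel

theorem phiP_eq {M : A.left.Modules} (hM : PicF.IsInvertible M) (x : Pt) :
    phiP hM x = clA (AmpleDevLib.isInvertible_pb (tR x).left hM) - clA hM := by
  rw [phiP, P_id, P_eq]

/-- The relation `t_x^*M ⊗ L^c ≅ M ⊗ t_y^*L^c`. -/
theorem rel1_iff {M L : A.left.Modules} (hM : PicF.IsInvertible M) (hL : PicF.IsInvertible L) (c : ℕ) (x y : Pt) :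
    Nonempty (CohB1.tensorMod ((Scheme.Modules.pullback (tR x).left).obj M) (CohB1.tensorPow L c) ≅
      CohB1.tensorMod M ((Scheme.Modules.pullback (tR y).left).obj (CohB1.tensorPow L c))) ↔
      phiP hM x = c • phiP hL y := by
  have hc := AmpleThLib.tensorPow_isInvertible hL c
  have hM' := AmpleDevLib.isInvertible_pb (tR x).left hM
  have hL' := AmpleDevLib.isInvertible_pb (tR y).left hc
  rw [← phiP_nsmul hL hc (CubeConsLib.clA_pow hL c), phiP_eq, phiP_eq,
    ← clA_eq_iff (HilbPolyLib.isInvertible_tensor hM' hc) (HilbPolyLib.isInvertible_tensor hM hL'),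
    clA_tensor hM' hc, clA_tensor hM hL']
  constructor
  · intro h
    rw [eq_sub_of_add_eq h]
    abel
  · intro h
    rw [sub_eq_iff_eq_add.1 h]
    abel

/-- The relation `t_y^*L ⊗ f^*L^n ≅ L ⊗ f^*t_x^*L^n`. -/
theorem rel2 {L : A.left.Modules} (hL : PicF.IsInvertible L) (n : ℕ) (f : A ⟶ A) (x y : Pt)
    (h : Nonempty (CohB1.tensorMod ((Scheme.Modules.pullback (tR y).left).obj L)
        ((Scheme.Modules.pullback f.left).obj (CohB1.tensorPow L n)) ≅
      CohB1.tensorMod L ((Scheme.Modules.pullback f.left).obj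
        ((Scheme.Modules.pullback (tR x).left).obj (CohB1.tensorPow L n))))) :
    phiP hL y = n • pullA f.left (phiP hL x) := by
  have hn := AmpleThLib.tensorPow_isInvertible hL n
  have h' := rel_of_tensorIso hL (AmpleDevLib.isInvertible_pb (tR y).left hL)
    (AmpleDevLib.isInvertible_pb f.left hn)
    (AmpleDevLib.isInvertible_pb f.left (AmpleDevLib.isInvertible_pb (tR x).left hn)) h
  rw [← phiP_eq, ← pullA_clA f.left (AmpleDevLib.isInvertible_pb (tR x).left hn), ← pullA_clA f.left hn, ← map_sub, ← phiP_eq,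
    phiP_nsmul hL hn (CubeConsLib.clA_pow hL n), map_nsmul] at h'
  exact h'

end RosatiLib

end
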